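import Cfsg.Agent.Lib.Helper5.Fi22Mult.Tr
import Cfsg.Agent.Lib.Helper5.Fi22Mult.Data
import Cfsg.Agent.Lib.Helper5.Fi22Mult.Tab3
import Cfsg.Agent.Lib.Helper5.Fi22Mult.Tab4
import Cfsg.Agent.Lib.Lead.CoxOut.Fi22Data

/-!
# The certificates for the bound on the stem extensions of `Fi22`: definitions

Five coset certificates (`720`, `72`, `756`, `2816` and `3510` rows: the chain
`S₆ < W(E₆) < 6·U₄(3):2 < (2² × 3)·U₆(2) < 6·Fi₂₂`) read from packed numerals.  The words of the certificates are the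
product of seven palindromes (seven commuting transpositions with trivial product) and products of two palindromes in nine
conjugates of the base involution `a` with the same point in the cosets of the centraliser of `a` in the group of
permutations of 3510 points; the coincidences are checked on the five points of the base of lead's chain of trees.
-/

set_option autoImplicit false

namespace Cfsg.Agent.Lib.Helper5.Fi22Mult

open Cfsg.Agent.PL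
open Cfsg.Agent.Lib.Helper5.SuzMult (longW c0w letOK)
open Cfsg.Agent.Lib.Helper5.J3Mult (FCert palW)

/-- the code of the base involution, the generator `a` -/
def czF : ℕ := Cfsg.Agent.CoxOut.Fi22.cg0

/-- the points of the base -/
def baseF : List ℕ := [876, 1439, 1069, 1648, 2044]

/-- the codes of the generators of the centraliser: the first eight members of the family -/
def trvF : List ℕ := scodesL.take 8

/-- the check of a coincidence -/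
def relF (c : (List ℕ × ℕ × List ℕ × ℕ) × List ℕ) : Bool := relOKb 3510 czF scodesL gcodesL trvF baseF c

/-- the word of the seven transpositions -/
def oddW : List ℕ := manyW oddL

/-- a certificate read from packed entries: table (17 bits), time (20), kind (2), row (17), word (12), place (7) -/
def mkCert7 (n g nsub : ℕ) (ent par : ℕ → ℕ) (W : ℕ → List ℕ) : FCert where
  n := n
  g := g
  nsub := nsub
  Tg a x := ent (a * g + x) % 131072
  tg a x := (ent (a * g + x) >>> 17) % 1048576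
  kd a x := (ent (a * g + x) >>> 37) % 4
  rs a x := (ent (a * g + x) >>> 39) % 131072
  rw a x := (ent (a * g + x) >>> 56) % 4096
  rp a x := (ent (a * g + x) >>> 68) % 128
  pa b := par b / g
  px b := par b % g
  W := W

noncomputable def chA0_n0_0 (j : ℕ) : ℕ := (Bool.rec (motive := fun _ => ℕ) (Bool.rec (motive := fun _ => ℕ) (Bool.rec (motive := fun _ => ℕ) cA0_0 cA0_1 (Nat.ble 1 j)) (Bool.rec (motive := fun _ => ℕ) cA0_2 cA0_3 (Nat.ble 3 j)) (Nat.ble 2 j)) (Bool.rec (motive := fun _ => ℕ) (Bool.rec (motive := fun _ => ℕ) cA0_4 cA0_5 (Nat.ble 5 j)) (Bool.rec (motive := fun _ => ℕ) cA0_6 cA0_7 (Nat.ble 7 j)) (Nat.ble 6 j)) (Nat.ble 4 j))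
noncomputable def chA0_n0_1 (j : ℕ) : ℕ := (Bool.rec (motive := fun _ => ℕ) (Bool.rec (motive := fun _ => ℕ) cA0_8 (Bool.rec (motive := fun _ => ℕ) cA0_9 cA0_10 (Nat.ble 10 j)) (Nat.ble 9 j)) (Bool.rec (motive := fun _ => ℕ) (Bool.rec (motive := fun _ => ℕ) cA0_11 cA0_12 (Nat.ble 12 j)) (Bool.rec (motive := fun _ => ℕ) cA0_13 cA0_14 (Nat.ble 14 j)) (Nat.ble 13 j)) (Nat.ble 11 j))
noncomputable def chA0_n1_0 (j : ℕ) : ℕ := (Bool.rec (motive := fun _ => ℕ) (chA0_n0_0 j) (chA0_n0_1 j) (Nat.ble 8 j))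

/-- the chunks of the table of the certificate 0 -/
noncomputable def chunkA0 (j : ℕ) : ℕ := chA0_n1_0 j

noncomputable def chA2_n0_0 (j : ℕ) : ℕ := (Bool.rec (motive := fun _ => ℕ) (Bool.rec (motive := fun _ => ℕ) (Bool.rec (motive := fun _ => ℕ) cA2_0 cA2_1 (Nat.ble 1 j)) (Bool.rec (motive := fun _ => ℕ) cA2_2 cA2_3 (Nat.ble 3 j)) (Nat.ble 2 j)) (Bool.rec (motive := fun _ => ℕ) (Bool.rec (motive := fun _ => ℕ) cA2_4 cA2_5 (Nat.ble 5 j)) (Bool.rec (motive := fun _ => ℕ) cA2_6 cA2_7 (Nat.ble 7 j)) (Nat.ble 6 j)) (Nat.ble 4 j))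
noncomputable def chA2_n0_1 (j : ℕ) : ℕ := (Bool.rec (motive := fun _ => ℕ) (Bool.rec (motive := fun _ => ℕ) (Bool.rec (motive := fun _ => ℕ) cA2_8 cA2_9 (Nat.ble 9 j)) (Bool.rec (motive := fun _ => ℕ) cA2_10 cA2_11 (Nat.ble 11 j)) (Nat.ble 10 j)) (Bool.rec (motive := fun _ => ℕ) (Bool.rec (motive := fun _ => ℕ) cA2_12 cA2_13 (Nat.ble 13 j)) (Bool.rec (motive := fun _ => ℕ) cA2_14 cA2_15 (Nat.ble 15 j)) (Nat.ble 14 j)) (Nat.ble 12 j))
noncomputable def chA2_n0_2 (j : ℕ) : ℕ := (Bool.rec (motive := fun _ => ℕ) (Bool.rec (motive := fun _ => ℕ) cA2_16 cA2_17 (Nat.ble 17 j)) (Bool.rec (motive := fun _ => ℕ) cA2_18 (Bool.rec (motive := fun _ => ℕ) cA2_19 cA2_20 (Nat.ble 20 j)) (Nat.ble 19 j)) (Nat.ble 18 j))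
noncomputable def chA2_n1_0 (j : ℕ) : ℕ := (Bool.rec (motive := fun _ => ℕ) (chA2_n0_0 j) (Bool.rec (motive := fun _ => ℕ) (chA2_n0_1 j) (chA2_n0_2 j) (Nat.ble 16 j)) (Nat.ble 8 j))

/-- the chunks of the table of the certificate 2 -/
noncomputable def chunkA2 (j : ℕ) : ℕ := chA2_n1_0 j

noncomputable def chA3_n0_0 (j : ℕ) : ℕ := (Bool.rec (motive := fun _ => ℕ) (Bool.rec (motive := fun _ => ℕ) (Bool.rec (motive := fun _ => ℕ) cA3_0 cA3_1 (Nat.ble 1 j)) (Bool.rec (motive := fun _ => ℕ) cA3_2 cA3_3 (Nat.ble 3 j)) (Nat.ble 2 j)) (Bool.rec (motive := fun _ => ℕ) (Bool.rec (motive := fun _ => ℕ) cA3_4 cA3_5 (Nat.ble 5 j)) (Bool.rec (motive := fun _ => ℕ) cA3_6 cA3_7 (Nat.ble 7 j)) (Nat.ble 6 j)) (Nat.ble 4 j))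
noncomputable def chA3_n0_1 (j : ℕ) : ℕ := (Bool.rec (motive := fun _ => ℕ) (Bool.rec (motive := fun _ => ℕ) (Bool.rec (motive := fun _ => ℕ) cA3_8 cA3_9 (Nat.ble 9 j)) (Bool.rec (motive := fun _ => ℕ) cA3_10 cA3_11 (Nat.ble 11 j)) (Nat.ble 10 j)) (Bool.rec (motive := fun _ => ℕ) (Bool.rec (motive := fun _ => ℕ) cA3_12 cA3_13 (Nat.ble 13 j)) (Bool.rec (motive := fun _ => ℕ) cA3_14 cA3_15 (Nat.ble 15 j)) (Nat.ble 14 j)) (Nat.ble 12 j))
noncomputable def chA3_n0_2 (j : ℕ) : ℕ := (Bool.rec (motive := fun _ => ℕ) (Bool.rec (motive := fun _ => ℕ) (Bool.rec (motive := fun _ => ℕ) cA3_16 cA3_17 (Nat.ble 17 j)) (Bool.rec (motive := fun _ => ℕ) cA3_18 cA3_19 (Nat.ble 19 j)) (Nat.ble 18 j)) (Bool.rec (motive := fun _ => ℕ) (Bool.rec (motive := fun _ => ℕ) cA3_20 cA3_21 (Nat.ble 21 j)) (Bool.rec (motive := fun _ => ℕ) cA3_22 cA3_23 (Nat.ble 23 j)) (Nat.ble 22 j)) (Nat.ble 20 j))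
noncomputable def chA3_n0_3 (j : ℕ) : ℕ := (Bool.rec (motive := fun _ => ℕ) (Bool.rec (motive := fun _ => ℕ) (Bool.rec (motive := fun _ => ℕ) cA3_24 cA3_25 (Nat.ble 25 j)) (Bool.rec (motive := fun _ => ℕ) cA3_26 cA3_27 (Nat.ble 27 j)) (Nat.ble 26 j)) (Bool.rec (motive := fun _ => ℕ) (Bool.rec (motive := fun _ => ℕ) cA3_28 cA3_29 (Nat.ble 29 j)) (Bool.rec (motive := fun _ => ℕ) cA3_30 cA3_31 (Nat.ble 31 j)) (Nat.ble 30 j)) (Nat.ble 28 j))
noncomputable def chA3_n0_4 (j : ℕ) : ℕ := (Bool.rec (motive := fun _ => ℕ) (Bool.rec (motive := fun _ => ℕ) (Bool.rec (motive := fun _ => ℕ) cA3_32 cA3_33 (Nat.ble 33 j)) (Bool.rec (motive := fun _ => ℕ) cA3_34 cA3_35 (Nat.ble 35 j)) (Nat.ble 34 j)) (Bool.rec (motive := fun _ => ℕ) (Bool.rec (motive := fun _ => ℕ) cA3_36 cA3_37 (Nat.ble 37 j)) (Bool.rec (motive := fun _ => ℕ) cA3_38 cA3_39 (Nat.ble 39 j)) (Nat.ble 38 j)) (Nat.ble 36 j))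
noncomputable def chA3_n0_5 (j : ℕ) : ℕ := (Bool.rec (motive := fun _ => ℕ) (Bool.rec (motive := fun _ => ℕ) (Bool.rec (motive := fun _ => ℕ) cA3_40 cA3_41 (Nat.ble 41 j)) (Bool.rec (motive := fun _ => ℕ) cA3_42 cA3_43 (Nat.ble 43 j)) (Nat.ble 42 j)) (Bool.rec (motive := fun _ => ℕ) (Bool.rec (motive := fun _ => ℕ) cA3_44 cA3_45 (Nat.ble 45 j)) (Bool.rec (motive := fun _ => ℕ) cA3_46 cA3_47 (Nat.ble 47 j)) (Nat.ble 46 j)) (Nat.ble 44 j))
noncomputable def chA3_n0_6 (j : ℕ) : ℕ := (Bool.rec (motive := fun _ => ℕ) (Bool.rec (motive := fun _ => ℕ) (Bool.rec (motive := fun _ => ℕ) cA3_48 cA3_49 (Nat.ble 49 j)) (Bool.rec (motive := fun _ => ℕ) cA3_50 cA3_51 (Nat.ble 51 j)) (Nat.ble 50 j)) (Bool.rec (motive := fun _ => ℕ) (Bool.rec (motive := fun _ => ℕ) cA3_52 cA3_53 (Nat.ble 53 j)) (Bool.rec (motive := fun _ => ℕ) cA3_54 cA3_55 (Nat.ble 55 j)) (Nat.ble 54 j)) (Nat.ble 52 j))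
noncomputable def chA3_n0_7 (j : ℕ) : ℕ := (Bool.rec (motive := fun _ => ℕ) (Bool.rec (motive := fun _ => ℕ) (Bool.rec (motive := fun _ => ℕ) cA3_56 cA3_57 (Nat.ble 57 j)) (Bool.rec (motive := fun _ => ℕ) cA3_58 cA3_59 (Nat.ble 59 j)) (Nat.ble 58 j)) (Bool.rec (motive := fun _ => ℕ) (Bool.rec (motive := fun _ => ℕ) cA3_60 cA3_61 (Nat.ble 61 j)) (Bool.rec (motive := fun _ => ℕ) cA3_62 cA3_63 (Nat.ble 63 j)) (Nat.ble 62 j)) (Nat.ble 60 j))
noncomputable def chA3_n0_8 (j : ℕ) : ℕ := (Bool.rec (motive := fun _ => ℕ) (Bool.rec (motive := fun _ => ℕ) (Bool.rec (motive := fun _ => ℕ) cA3_64 cA3_65 (Nat.ble 65 j)) (Bool.rec (motive := fun _ => ℕ) cA3_66 cA3_67 (Nat.ble 67 j)) (Nat.ble 66 j)) (Bool.rec (motive := fun _ => ℕ) (Bool.rec (motive := fun _ => ℕ) cA3_68 cA3_69 (Nat.ble 69 j)) (Bool.rec (motive := fun _ => ℕ) cA3_70 cA3_71 (Nat.ble 71 j)) (Nat.ble 70 j)) (Nat.ble 68 j))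
noncomputable def chA3_n0_9 (j : ℕ) : ℕ := (Bool.rec (motive := fun _ => ℕ) (Bool.rec (motive := fun _ => ℕ) (Bool.rec (motive := fun _ => ℕ) cA3_72 cA3_73 (Nat.ble 73 j)) (Bool.rec (motive := fun _ => ℕ) cA3_74 cA3_75 (Nat.ble 75 j)) (Nat.ble 74 j)) (Bool.rec (motive := fun _ => ℕ) (Bool.rec (motive := fun _ => ℕ) cA3_76 cA3_77 (Nat.ble 77 j)) (Bool.rec (motive := fun _ => ℕ) cA3_78 cA3_79 (Nat.ble 79 j)) (Nat.ble 78 j)) (Nat.ble 76 j))
noncomputable def chA3_n0_10 (j : ℕ) : ℕ := (Bool.rec (motive := fun _ => ℕ) (Bool.rec (motive := fun _ => ℕ) (Bool.rec (motive := fun _ => ℕ) cA3_80 cA3_81 (Nat.ble 81 j)) (Bool.rec (motive := fun _ => ℕ) cA3_82 cA3_83 (Nat.ble 83 j)) (Nat.ble 82 j)) (Bool.rec (motive := fun _ => ℕ) (Bool.rec (motive := fun _ => ℕ) cA3_84 cA3_85 (Nat.ble 85 j)) (Bool.rec (motive := fun _ => ℕ) cA3_86 cA3_87 (Nat.ble 87 j)) (Nat.ble 86 j)) (Nat.ble 84 j))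
noncomputable def chA3_n1_0 (j : ℕ) : ℕ := (Bool.rec (motive := fun _ => ℕ) (Bool.rec (motive := fun _ => ℕ) (Bool.rec (motive := fun _ => ℕ) (chA3_n0_0 j) (chA3_n0_1 j) (Nat.ble 8 j)) (Bool.rec (motive := fun _ => ℕ) (chA3_n0_2 j) (chA3_n0_3 j) (Nat.ble 24 j)) (Nat.ble 16 j)) (Bool.rec (motive := fun _ => ℕ) (Bool.rec (motive := fun _ => ℕ) (chA3_n0_4 j) (chA3_n0_5 j) (Nat.ble 40 j)) (Bool.rec (motive := fun _ => ℕ) (chA3_n0_6 j) (chA3_n0_7 j) (Nat.ble 56 j)) (Nat.ble 48 j)) (Nat.ble 32 j))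
noncomputable def chA3_n1_1 (j : ℕ) : ℕ := (Bool.rec (motive := fun _ => ℕ) (chA3_n0_8 j) (Bool.rec (motive := fun _ => ℕ) (chA3_n0_9 j) (chA3_n0_10 j) (Nat.ble 80 j)) (Nat.ble 72 j))
noncomputable def chA3_n2_0 (j : ℕ) : ℕ := (Bool.rec (motive := fun _ => ℕ) (chA3_n1_0 j) (chA3_n1_1 j) (Nat.ble 64 j))

/-- the chunks of the table of the certificate 3 -/
noncomputable def chunkA3 (j : ℕ) : ℕ := chA3_n2_0 j

noncomputable def pchA3_n0_0 (j : ℕ) : ℕ := (Bool.rec (motive := fun _ => ℕ) qA3_0 qA3_1 (Nat.ble 1 j))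

/-- the chunks of the definitions of the rows of the certificate 3 -/
noncomputable def pchunkA3 (j : ℕ) : ℕ := pchA3_n0_0 j

noncomputable def chA4_n0_0 (j : ℕ) : ℕ := (Bool.rec (motive := fun _ => ℕ) (Bool.rec (motive := fun _ => ℕ) (Bool.rec (motive := fun _ => ℕ) cA4_0 cA4_1 (Nat.ble 1 j)) (Bool.rec (motive := fun _ => ℕ) cA4_2 cA4_3 (Nat.ble 3 j)) (Nat.ble 2 j)) (Bool.rec (motive := fun _ => ℕ) (Bool.rec (motive := fun _ => ℕ) cA4_4 cA4_5 (Nat.ble 5 j)) (Bool.rec (motive := fun _ => ℕ) cA4_6 cA4_7 (Nat.ble 7 j)) (Nat.ble 6 j)) (Nat.ble 4 j))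
noncomputable def chA4_n0_1 (j : ℕ) : ℕ := (Bool.rec (motive := fun _ => ℕ) (Bool.rec (motive := fun _ => ℕ) (Bool.rec (motive := fun _ => ℕ) cA4_8 cA4_9 (Nat.ble 9 j)) (Bool.rec (motive := fun _ => ℕ) cA4_10 cA4_11 (Nat.ble 11 j)) (Nat.ble 10 j)) (Bool.rec (motive := fun _ => ℕ) (Bool.rec (motive := fun _ => ℕ) cA4_12 cA4_13 (Nat.ble 13 j)) (Bool.rec (motive := fun _ => ℕ) cA4_14 cA4_15 (Nat.ble 15 j)) (Nat.ble 14 j)) (Nat.ble 12 j))
noncomputable def chA4_n0_2 (j : ℕ) : ℕ := (Bool.rec (motive := fun _ => ℕ) (Bool.rec (motive := fun _ => ℕ) (Bool.rec (motive := fun _ => ℕ) cA4_16 cA4_17 (Nat.ble 17 j)) (Bool.rec (motive := fun _ => ℕ) cA4_18 cA4_19 (Nat.ble 19 j)) (Nat.ble 18 j)) (Bool.rec (motive := fun _ => ℕ) (Bool.rec (motive := fun _ => ℕ) cA4_20 cA4_21 (Nat.ble 21 j)) (Bool.rec (motive := fun _ => ℕ) cA4_22 cA4_23 (Nat.ble 23 j)) (Nat.ble 22 j)) (Nat.ble 20 j))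
noncomputable def chA4_n0_3 (j : ℕ) : ℕ := (Bool.rec (motive := fun _ => ℕ) (Bool.rec (motive := fun _ => ℕ) (Bool.rec (motive := fun _ => ℕ) cA4_24 cA4_25 (Nat.ble 25 j)) (Bool.rec (motive := fun _ => ℕ) cA4_26 cA4_27 (Nat.ble 27 j)) (Nat.ble 26 j)) (Bool.rec (motive := fun _ => ℕ) (Bool.rec (motive := fun _ => ℕ) cA4_28 cA4_29 (Nat.ble 29 j)) (Bool.rec (motive := fun _ => ℕ) cA4_30 cA4_31 (Nat.ble 31 j)) (Nat.ble 30 j)) (Nat.ble 28 j))
noncomputable def chA4_n0_4 (j : ℕ) : ℕ := (Bool.rec (motive := fun _ => ℕ) (Bool.rec (motive := fun _ => ℕ) (Bool.rec (motive := fun _ => ℕ) cA4_32 cA4_33 (Nat.ble 33 j)) (Bool.rec (motive := fun _ => ℕ) cA4_34 cA4_35 (Nat.ble 35 j)) (Nat.ble 34 j)) (Bool.rec (motive := fun _ => ℕ) (Bool.rec (motive := fun _ => ℕ) cA4_36 cA4_37 (Nat.ble 37 j)) (Bool.rec (motive := fun _ => ℕ) cA4_38 cA4_39 (Nat.ble 39 j)) (Nat.ble 38 j)) (Nat.ble 36 j))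
noncomputable def chA4_n0_5 (j : ℕ) : ℕ := (Bool.rec (motive := fun _ => ℕ) (Bool.rec (motive := fun _ => ℕ) (Bool.rec (motive := fun _ => ℕ) cA4_40 cA4_41 (Nat.ble 41 j)) (Bool.rec (motive := fun _ => ℕ) cA4_42 cA4_43 (Nat.ble 43 j)) (Nat.ble 42 j)) (Bool.rec (motive := fun _ => ℕ) (Bool.rec (motive := fun _ => ℕ) cA4_44 cA4_45 (Nat.ble 45 j)) (Bool.rec (motive := fun _ => ℕ) cA4_46 cA4_47 (Nat.ble 47 j)) (Nat.ble 46 j)) (Nat.ble 44 j))
noncomputable def chA4_n0_6 (j : ℕ) : ℕ := (Bool.rec (motive := fun _ => ℕ) (Bool.rec (motive := fun _ => ℕ) (Bool.rec (motive := fun _ => ℕ) cA4_48 cA4_49 (Nat.ble 49 j)) (Bool.rec (motive := fun _ => ℕ) cA4_50 cA4_51 (Nat.ble 51 j)) (Nat.ble 50 j)) (Bool.rec (motive := fun _ => ℕ) (Bool.rec (motive := fun _ => ℕ) cA4_52 cA4_53 (Nat.ble 53 j)) (Bool.rec (motive := fun _ => ℕ) cA4_54 cA4_55 (Nat.ble 55 j)) (Nat.ble 54 j)) (Nat.ble 52 j))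
noncomputable def chA4_n0_7 (j : ℕ) : ℕ := (Bool.rec (motive := fun _ => ℕ) (Bool.rec (motive := fun _ => ℕ) (Bool.rec (motive := fun _ => ℕ) cA4_56 cA4_57 (Nat.ble 57 j)) (Bool.rec (motive := fun _ => ℕ) cA4_58 cA4_59 (Nat.ble 59 j)) (Nat.ble 58 j)) (Bool.rec (motive := fun _ => ℕ) (Bool.rec (motive := fun _ => ℕ) cA4_60 cA4_61 (Nat.ble 61 j)) (Bool.rec (motive := fun _ => ℕ) cA4_62 cA4_63 (Nat.ble 63 j)) (Nat.ble 62 j)) (Nat.ble 60 j))
noncomputable def chA4_n0_8 (j : ℕ) : ℕ := (Bool.rec (motive := fun _ => ℕ) (Bool.rec (motive := fun _ => ℕ) (Bool.rec (motive := fun _ => ℕ) cA4_64 cA4_65 (Nat.ble 65 j)) (Bool.rec (motive := fun _ => ℕ) cA4_66 cA4_67 (Nat.ble 67 j)) (Nat.ble 66 j)) (Bool.rec (motive := fun _ => ℕ) (Bool.rec (motive := fun _ => ℕ) cA4_68 cA4_69 (Nat.ble 69 j)) (Bool.rec (motive := fun _ => ℕ) cA4_70 cA4_71 (Nat.ble 71 j)) (Nat.ble 70 j)) (Nat.ble 68 j))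
noncomputable def chA4_n0_9 (j : ℕ) : ℕ := (Bool.rec (motive := fun _ => ℕ) (Bool.rec (motive := fun _ => ℕ) (Bool.rec (motive := fun _ => ℕ) cA4_72 cA4_73 (Nat.ble 73 j)) (Bool.rec (motive := fun _ => ℕ) cA4_74 cA4_75 (Nat.ble 75 j)) (Nat.ble 74 j)) (Bool.rec (motive := fun _ => ℕ) (Bool.rec (motive := fun _ => ℕ) cA4_76 cA4_77 (Nat.ble 77 j)) (Bool.rec (motive := fun _ => ℕ) cA4_78 cA4_79 (Nat.ble 79 j)) (Nat.ble 78 j)) (Nat.ble 76 j))
noncomputable def chA4_n0_10 (j : ℕ) : ℕ := (Bool.rec (motive := fun _ => ℕ) (Bool.rec (motive := fun _ => ℕ) (Bool.rec (motive := fun _ => ℕ) cA4_80 cA4_81 (Nat.ble 81 j)) (Bool.rec (motive := fun _ => ℕ) cA4_82 cA4_83 (Nat.ble 83 j)) (Nat.ble 82 j)) (Bool.rec (motive := fun _ => ℕ) (Bool.rec (motive := fun _ => ℕ) cA4_84 cA4_85 (Nat.ble 85 j)) (Bool.rec (motive := fun _ => ℕ) cA4_86 cA4_87 (Nat.ble 87 j)) (Nat.ble 86 j)) (Nat.ble 84 j))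
noncomputable def chA4_n0_11 (j : ℕ) : ℕ := (Bool.rec (motive := fun _ => ℕ) (Bool.rec (motive := fun _ => ℕ) (Bool.rec (motive := fun _ => ℕ) cA4_88 cA4_89 (Nat.ble 89 j)) (Bool.rec (motive := fun _ => ℕ) cA4_90 cA4_91 (Nat.ble 91 j)) (Nat.ble 90 j)) (Bool.rec (motive := fun _ => ℕ) (Bool.rec (motive := fun _ => ℕ) cA4_92 cA4_93 (Nat.ble 93 j)) (Bool.rec (motive := fun _ => ℕ) cA4_94 cA4_95 (Nat.ble 95 j)) (Nat.ble 94 j)) (Nat.ble 92 j))
noncomputable def chA4_n0_12 (j : ℕ) : ℕ := (Bool.rec (motive := fun _ => ℕ) (Bool.rec (motive := fun _ => ℕ) (Bool.rec (motive := fun _ => ℕ) cA4_96 cA4_97 (Nat.ble 97 j)) (Bool.rec (motive := fun _ => ℕ) cA4_98 cA4_99 (Nat.ble 99 j)) (Nat.ble 98 j)) (Bool.rec (motive := fun _ => ℕ) (Bool.rec (motive := fun _ => ℕ) cA4_100 cA4_101 (Nat.ble 101 j)) (Bool.rec (motive := fun _ => ℕ) cA4_102 cA4_103 (Nat.ble 103 j)) (Nat.ble 102 j)) (Nat.ble 100 j))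
noncomputable def chA4_n0_13 (j : ℕ) : ℕ := (Bool.rec (motive := fun _ => ℕ) (Bool.rec (motive := fun _ => ℕ) (Bool.rec (motive := fun _ => ℕ) cA4_104 cA4_105 (Nat.ble 105 j)) (Bool.rec (motive := fun _ => ℕ) cA4_106 cA4_107 (Nat.ble 107 j)) (Nat.ble 106 j)) (Bool.rec (motive := fun _ => ℕ) (Bool.rec (motive := fun _ => ℕ) cA4_108 cA4_109 (Nat.ble 109 j)) (Bool.rec (motive := fun _ => ℕ) cA4_110 cA4_111 (Nat.ble 111 j)) (Nat.ble 110 j)) (Nat.ble 108 j))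
noncomputable def chA4_n0_14 (j : ℕ) : ℕ := (Bool.rec (motive := fun _ => ℕ) (Bool.rec (motive := fun _ => ℕ) (Bool.rec (motive := fun _ => ℕ) cA4_112 cA4_113 (Nat.ble 113 j)) (Bool.rec (motive := fun _ => ℕ) cA4_114 cA4_115 (Nat.ble 115 j)) (Nat.ble 114 j)) (Bool.rec (motive := fun _ => ℕ) (Bool.rec (motive := fun _ => ℕ) cA4_116 cA4_117 (Nat.ble 117 j)) (Bool.rec (motive := fun _ => ℕ) cA4_118 cA4_119 (Nat.ble 119 j)) (Nat.ble 118 j)) (Nat.ble 116 j))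
noncomputable def chA4_n0_15 (j : ℕ) : ℕ := (Bool.rec (motive := fun _ => ℕ) (Bool.rec (motive := fun _ => ℕ) cA4_120 cA4_121 (Nat.ble 121 j)) (Bool.rec (motive := fun _ => ℕ) cA4_122 cA4_123 (Nat.ble 123 j)) (Nat.ble 122 j))
noncomputable def chA4_n1_0 (j : ℕ) : ℕ := (Bool.rec (motive := fun _ => ℕ) (Bool.rec (motive := fun _ => ℕ) (Bool.rec (motive := fun _ => ℕ) (chA4_n0_0 j) (chA4_n0_1 j) (Nat.ble 8 j)) (Bool.rec (motive := fun _ => ℕ) (chA4_n0_2 j) (chA4_n0_3 j) (Nat.ble 24 j)) (Nat.ble 16 j)) (Bool.rec (motive := fun _ => ℕ) (Bool.rec (motive := fun _ => ℕ) (chA4_n0_4 j) (chA4_n0_5 j) (Nat.ble 40 j)) (Bool.rec (motive := fun _ => ℕ) (chA4_n0_6 j) (chA4_n0_7 j) (Nat.ble 56 j)) (Nat.ble 48 j)) (Nat.ble 32 j))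
noncomputable def chA4_n1_1 (j : ℕ) : ℕ := (Bool.rec (motive := fun _ => ℕ) (Bool.rec (motive := fun _ => ℕ) (Bool.rec (motive := fun _ => ℕ) (chA4_n0_8 j) (chA4_n0_9 j) (Nat.ble 72 j)) (Bool.rec (motive := fun _ => ℕ) (chA4_n0_10 j) (chA4_n0_11 j) (Nat.ble 88 j)) (Nat.ble 80 j)) (Bool.rec (motive := fun _ => ℕ) (Bool.rec (motive := fun _ => ℕ) (chA4_n0_12 j) (chA4_n0_13 j) (Nat.ble 104 j)) (Bool.rec (motive := fun _ => ℕ) (chA4_n0_14 j) (chA4_n0_15 j) (Nat.ble 120 j)) (Nat.ble 112 j)) (Nat.ble 96 j))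
noncomputable def chA4_n2_0 (j : ℕ) : ℕ := (Bool.rec (motive := fun _ => ℕ) (chA4_n1_0 j) (chA4_n1_1 j) (Nat.ble 64 j))

/-- the chunks of the table of the certificate 4 -/
noncomputable def chunkA4 (j : ℕ) : ℕ := chA4_n2_0 j

noncomputable def pchA4_n0_0 (j : ℕ) : ℕ := (Bool.rec (motive := fun _ => ℕ) qA4_0 qA4_1 (Nat.ble 1 j))

/-- the chunks of the definitions of the rows of the certificate 4 -/
noncomputable def pchunkA4 (j : ℕ) : ℕ := pchA4_n0_0 j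


noncomputable def entA4 (i : ℕ) : ℕ := (chunkA4 (i / 256) >>> (75 * (i % 256))) % 37778931862957161709568
noncomputable def parA4 (b : ℕ) : ℕ := (pchunkA4 (b / 2048) >>> (19 * (b % 2048))) % 524288
noncomputable def entA3 (i : ℕ) : ℕ := (chunkA3 (i / 256) >>> (75 * (i % 256))) % 37778931862957161709568
noncomputable def parA3 (b : ℕ) : ℕ := (pchunkA3 (b / 2048) >>> (19 * (b % 2048))) % 524288
noncomputable def entA2 (i : ℕ) : ℕ := (chunkA2 (i / 256) >>> (75 * (i % 256))) % 37778931862957161709568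
def parA2 (b : ℕ) : ℕ := (qA2 >>> (19 * b)) % 524288
def entA1 (i : ℕ) : ℕ := (cA1 >>> (75 * i)) % 37778931862957161709568
def parA1 (b : ℕ) : ℕ := (qA1 >>> (19 * b)) % 524288
noncomputable def entA0 (i : ℕ) : ℕ := (chunkA0 (i / 256) >>> (75 * (i % 256))) % 37778931862957161709568
def parA0 (b : ℕ) : ℕ := (qA0 >>> (19 * b)) % 524288

/-- the words of a certificate: a special word, then the coincidences -/
def WS (o : List ℕ) (rel : List ((List ℕ × ℕ × List ℕ × ℕ) × List ℕ)) (k : ℕ) : List ℕ :=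
  Nat.rec (motive := fun _ => List ℕ) o (fun k' _ => longW (rel.getD k' c0w).1) k

theorem WS_zero (o : List ℕ) (rel : List ((List ℕ × ℕ × List ℕ × ℕ) × List ℕ)) : WS o rel 0 = o := rfl

theorem WS_succ (o : List ℕ) (rel : List ((List ℕ × ℕ × List ℕ × ℕ) × List ℕ)) (k : ℕ) :
    WS o rel (k + 1) = longW (rel.getD k c0w).1 := rfl

/-- the five certificates -/
noncomputable def certA0 : FCert := mkCert7 720 5 0 entA0 parA0 (WS [0, 0] rel0)
def certA1 : FCert := mkCert7 72 6 5 entA1 parA1 (WS [0, 0] rel1)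
noncomputable def certA2 : FCert := mkCert7 756 7 6 entA2 parA2 (WS [0, 0] rel2)
noncomputable def certA3 : FCert := mkCert7 2816 8 7 entA3 parA3 (WS oddW rel3)
noncomputable def certA4 : FCert := mkCert7 3510 9 8 entA4 parA4 (WS oddW rel4)

/-- the rows of a range are checked as soon as each of them is -/
theorem rowsOK_of_forall (C : FCert) {lo len : ℕ} (h : ∀ a, lo ≤ a → a < lo + len → C.rowOK a = true) :
    C.rowsOK lo len = true := by
  rw [FCert.rowsOK, List.all_eq_true]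
  intro i hi
  have hi' := List.mem_range.1 hi
  exact h _ (Nat.le_add_right _ _) (by omega)

/-- a row of a checked range -/
theorem row_of_rows (C : FCert) {lo len : ℕ} (h : C.rowsOK lo len = true) {a : ℕ} (h1 : lo ≤ a) (h2 : a < lo + len) :
    C.rowOK a = true := by
  rw [FCert.rowsOK, List.all_eq_true] at h
  have h3 := h (a - lo) (List.mem_range.2 (by omega))
  rwa [show lo + (a - lo) = a by omega] at h3

/-- a check of a list in two parts -/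
theorem all_split {α : Type*} (p : α → Bool) (n : ℕ) (l : List α) (h1 : (l.take n).all p = true)
    (h2 : (l.drop n).all p = true) : l.all p = true := by
  rw [← List.take_append_drop n l, List.all_append, h1, h2]
  rfl

/-- the pairs of a list, each member with the later ones -/
def pairsOf {α : Type*} : List α → List (α × α)
  | [] => []
  | p :: l => l.map (fun q => (p, q)) ++ pairsOf l

theorem pairwise_of_pairsOf {α : Type*} {R : α → α → Prop} : ∀ l : List α,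
    (∀ pq ∈ pairsOf l, R pq.1 pq.2) → l.Pairwise R
  | [], _ => List.Pairwise.nil
  | p :: l, h => by
    rw [List.pairwise_cons]
    constructor
    · intro q hq
      exact h (p, q) (List.mem_append_left _ (List.mem_map.2 ⟨q, hq, rfl⟩))
    · exact pairwise_of_pairsOf l (fun pq hpq => h pq (List.mem_append_right _ hpq))

/-- the coincidence that says that the transposition of the second palindrome fixes the point of the first -/
def fixQ (pq : (List ℕ × ℕ) × (List ℕ × ℕ)) : List ℕ × ℕ × List ℕ × ℕ :=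
  (pq.1.1 ++ palW pq.2.1 pq.2.2, pq.1.2, pq.1.1, pq.1.2)

/-- the check that the seven transpositions commute -/
def fixOK : Bool :=
  (List.range 21).all fun k => relF (fixQ ((pairsOf oddL).getD k (([], 0), ([], 0))), fixWit.getD k [])

end Cfsg.Agent.Lib.Helper5.Fi22Mult
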