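import Cfsg.Agent.Lib.Helper5.Fi22Mult.C

/-! The checks for the stem extensions of `Fi22` that the kernel evaluates: the codes of the family (products of codes) -/

set_option autoImplicit false
set_option maxRecDepth 100000

namespace Cfsg.Agent.Lib.Helper5.Fi22Mult

open Cfsg.Agent.PL Cfsg.Agent.CoxOut.Fi22
open Cfsg.Agent.Lib.Helper5.SuzMult (wordG conjC letOK c0w)

theorem chk_cz : Nat.beq (pmul 3510 czF czF) (pone 3510) = true := by decide +kernel

theorem chk_gcodes : gwords.map (wordG 3510 cgs) = gcodesL := by decide +kernel

end Cfsg.Agent.Lib.Helper5.Fi22Mult
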