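import Cfsg.Agent.Lib.Helper5.Fi22Mult.C

/-! The checks for the stem extensions of `Fi22` that the kernel evaluates by tracing the points of the base: the links
and the odd word of the centraliser, the commuting of the seven transpositions, the generators as words in the family,
the letters, the rows of the second certificate -/

set_option autoImplicit false
set_option maxRecDepth 100000

namespace Cfsg.Agent.Lib.Helper5.Fi22Mult

open Cfsg.Agent.PL Cfsg.Agent.CoxOut.Fi22
open Cfsg.Agent.Lib.Helper5.SuzMult (wordG conjC letOK c0w)

theorem chk_comm : (List.range 8).all (fun i => baseF.all fun β =>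
    Nat.beq (lk (scodesL.getD i czF) (lk czF β)) (lk czF (lk (scodesL.getD i czF) β))) = true := by decide +kernel

theorem chk_link : (List.range 8).all (fun i =>
    wordOKb czF scodesL baseF [kpar i, i, kpar i, i, kpar i, i]) = true := by decide +kernel

theorem chk_kpar : (List.range 8).all (fun i => Nat.blt (kpar i) 8 && Nat.beq (kpar^[8] i) 0) = true ∧
    oddW.all (fun x => Nat.blt x 8) = true ∧ oddW.length % 2 = 1 ∧ oddL.length = 7 := by decide +kernel

theorem chk_odd : wordOKb czF scodesL baseF oddW.reverse = true := by decide +kernel

theorem chk_fix : fixOK = true ∧ (pairsOf oddL).length = 21 := by decide +kernel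

theorem chk_cox : (List.range 9).all (fun x => (coxW.getD x []).all (fun y => Nat.blt y 9) && baseF.all fun β =>
    Nat.beq (lk (cgs.getD x 0) β) (trP czF scodesL (coxW.getD x []).reverse β)) = true := by decide +kernel

theorem chk_letF : rel0.all (fun c => letOK 5 c.1) = true ∧ rel1.all (fun c => letOK 6 c.1) = true ∧
    rel2.all (fun c => letOK 7 c.1) = true ∧ rel3.all (fun c => letOK 8 c.1) = true ∧
    rel4.all (fun c => letOK 9 c.1) = true := by decide +kernel

theorem chk_c0w : relF c0w = true := by decide +kernel

theorem chk_s0 : Nat.beq (scodesL.getD 0 czF) (pone 3510) = false := by decide +kernel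

theorem chk_cA1 : certA1.rowsOK 0 72 = true := by decide +kernel

end Cfsg.Agent.Lib.Helper5.Fi22Mult
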