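import Cfsg.Agent.Lib.Helper5.Fi22Mult.C

/-! The coincidences of the coset certificate 3 for the stem extensions of `Fi22`, checked by the kernel (part 0) -/

set_option autoImplicit false
set_option maxRecDepth 100000

namespace Cfsg.Agent.Lib.Helper5.Fi22Mult

open Cfsg.Agent.PL Cfsg.Agent.CoxOut.Fi22
open Cfsg.Agent.Lib.Helper5.SuzMult (wordG conjC letOK c0w)

theorem chk_rel3_g0 : rel3.all relF = true := by decide +kernel

end Cfsg.Agent.Lib.Helper5.Fi22Mult
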