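import Cfsg.Agent.Lib.Helper5.Fi22Mult.C

/-! The rows of the fifth coset certificate for the stem extensions of `Fi22`, checked by the kernel (part 2, in
ranges of 270 rows to keep the memory of one check small) -/

set_option autoImplicit false
set_option maxRecDepth 100000

namespace Cfsg.Agent.Lib.Helper5.Fi22Mult

open Cfsg.Agent.PL Cfsg.Agent.CoxOut.Fi22
open Cfsg.Agent.Lib.Helper5.SuzMult (wordG conjC letOK c0w)

theorem chk_certA4_2_0 : certA4.rowsOK 1620 270 = true := by decide +kernel
theorem chk_certA4_2_1 : certA4.rowsOK 1890 270 = true := by decide +kernel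
theorem chk_certA4_2_2 : certA4.rowsOK 2160 270 = true := by decide +kernel

theorem chk_certA4_2 : certA4.rowsOK 1620 810 = true := by
  apply rowsOK_of_forall
  intro a hlo hhi
  rcases Nat.lt_or_ge a 1890 with h | h0
  · exact row_of_rows certA4 chk_certA4_2_0 (by omega) (by omega)
  rcases Nat.lt_or_ge a 2160 with h | h1
  · exact row_of_rows certA4 chk_certA4_2_1 (by omega) (by omega)
  exact row_of_rows certA4 chk_certA4_2_2 (by omega) (by omega)

end Cfsg.Agent.Lib.Helper5.Fi22Mult
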