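import Cfsg.Agent.Lib.Helper5.Fi22Mult.ChkR0_0
import Cfsg.Agent.Lib.Helper5.Fi22Mult.ChkR1_0
import Cfsg.Agent.Lib.Helper5.Fi22Mult.ChkR2_0
import Cfsg.Agent.Lib.Helper5.Fi22Mult.ChkR3_0
import Cfsg.Agent.Lib.Helper5.Fi22Mult.ChkR4_0
import Cfsg.Agent.Lib.Helper5.Fi22Mult.ChkR4_1

/-! The coincidences of the coset certificates for the stem extensions of `Fi22`: the pieces checked by the kernel, put
together -/

set_option autoImplicit false

namespace Cfsg.Agent.Lib.Helper5.Fi22Mult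

theorem chk_rel0 : rel0.all relF = true :=
  chk_rel0_g0

theorem chk_rel1 : rel1.all relF = true :=
  chk_rel1_g0

theorem chk_rel2 : rel2.all relF = true :=
  chk_rel2_g0

theorem chk_rel3 : rel3.all relF = true :=
  chk_rel3_g0

theorem chk_rel4 : rel4.all relF = true :=
  all_split relF 214 _ chk_rel4_g0
    (chk_rel4_g1)

end Cfsg.Agent.Lib.Helper5.Fi22Mult
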