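import Cfsg.Agent.Lib.Helper5.Fi22Mult.P
import Cfsg.Agent.Lib.Helper5.Fi22Mult.R
import Cfsg.Agent.Lib.Helper5.Fi22Mult.ChkT0_0
import Cfsg.Agent.Lib.Helper5.Fi22Mult.ChkT2_0
import Cfsg.Agent.Lib.Helper5.Fi22Mult.ChkT3_0
import Cfsg.Agent.Lib.Helper5.Fi22Mult.ChkT3_1
import Cfsg.Agent.Lib.Helper5.Fi22Mult.ChkT3_2
import Cfsg.Agent.Lib.Helper5.Fi22Mult.ChkT3_3
import Cfsg.Agent.Lib.Helper5.Fi22Mult.ChkT4_0
import Cfsg.Agent.Lib.Helper5.Fi22Mult.ChkT4_1
import Cfsg.Agent.Lib.Helper5.Fi22Mult.ChkT4_2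
import Cfsg.Agent.Lib.Helper5.Fi22Mult.ChkT4_3
import Cfsg.Agent.Lib.Helper5.Fi22Mult.ChkT4_4

/-!
# A finite stem extension of `Fi22` has at most `6 |Fi22|` elements

`Fi22` is the group `PF` of permutations of 3510 points and `tF` the transposition `a`; `C0F` is a perfect subgroup of its
centraliser.  Nine conjugates of `tF` generate `PF`; in a stem extension their canonical lifts `γ 0, …, γ 8` (indexed by
cosets of `C0F`, normalised by seven commuting transpositions with trivial product) generate the extension and satisfy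
every relation "two palindromes have the same point" (checked on the five points of the base, with an element of `C0F`
as a witness) and the relation "the product of the seven lifts is trivial".  Five coset certificates bound the orders of
the groups generated by the first `5, …, 9` lifts by `720`, `72 · 720`, …, `3510 · 2816 · 756 · 72 · 720 = 6 |Fi22|`.
-/

set_option autoImplicit false
set_option maxRecDepth 100000

namespace Cfsg.Agent.Lib.Helper5.Fi22Mult

open Cfsg.Agent.PL Cfsg.Agent.Lib.Helper8.CanonLift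
open Cfsg.Agent.CoxOut.Fi22 (cgs gl)
open Cfsg.Agent.Lib.Helper5.J3Mult (FCert palW Cz seg seg_zero card_seg_le)
open Cfsg.Agent.Lib.Helper5.SuzMult

/-- the generators are words in the family -/
theorem genPF_eq {x : ℕ} (hx : x < 9) : genPF x = ((coxW.getD x []).map tGF).prod := by
  have h := List.all_eq_true.1 chk_cox x (List.mem_range.2 hx)
  rw [Bool.and_eq_true] at h
  have hreg : enc 3510 (genPF x).1 = cgs.getD x 0 := by
    have hl1 : x < gensPF.length := by
      show x < (gl.map genPF).length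
      rw [List.length_map]
      exact hx
    have hl2 : x < cgs.length := hx
    have h1 := List.Forall₂.get regsPF hl1 hl2
    have e1 : gensPF.get ⟨x, hl1⟩ = genPF x := by
      show (gl.map genPF).get ⟨x, hl1⟩ = genPF x
      rw [List.get_eq_getElem, List.getElem_map]
      have key : ∀ h : x < gl.length, gl[x]'h = x := by
        intro h
        unfold gl
        interval_cases x <;> rfl
      rw [key]
    have e2 : cgs.get ⟨x, hl2⟩ = cgs.getD x 0 := by
      rw [List.getD_eq_getElem _ _ hl2]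
      rfl
    rw [e1, e2] at h1
    exact h1
  have a1 : Acts (genPF x).1 (lk (cgs.getD x 0)) := Acts.of_enc n_le hreg
  have a2 := acts_word n_le good_czF good_gcodes chk_scodes (coxW.getD x [])
  refine eq_of_acts_base hbaseF a1 a2 ?_
  intro β hβ
  exact Nat.eq_of_beq_eq_true (List.all_eq_true.1 h.2 β hβ)

/-- **the nine transpositions generate `PF`** -/
theorem closure_tGF : Subgroup.closure (tGF '' Set.Iio 9) = ⊤ := by
  apply eq_top_of_gens
  intro g hg
  unfold gensPF gl at hg
  rw [List.mem_map] at hg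
  obtain ⟨x, hx, rfl⟩ := hg
  have hx9 : x < 9 := by
    simp only [List.mem_cons, List.not_mem_nil, or_false] at hx
    omega
  rw [genPF_eq hx9]
  apply Subgroup.list_prod_mem
  intro y hy
  rw [List.mem_map] at hy
  obtain ⟨i, hi, rfl⟩ := hy
  have h := List.all_eq_true.1 chk_cox x (List.mem_range.2 hx9)
  rw [Bool.and_eq_true] at h
  have hi9 := List.all_eq_true.1 h.1 i hi
  rw [Nat.blt_eq] at hi9
  exact Subgroup.subset_closure ⟨i, hi9, rfl⟩

/-- the cosets that belong to the members of the family -/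
noncomputable def xF (i : ℕ) : ↥PF ⧸ C0F := xG C0F gcodesL i

/-- the point of a palindrome -/
noncomputable def ptF (p : List ℕ × ℕ) : ↥PF ⧸ C0F := palP0 tF C0F hC0F xF p.1 p.2

theorem Tq0_xF (i : ℕ) : Tq0 tF C0F hC0F (xF i) = tGF i := rfl

/-- a coincidence checked on the base gives the equality of two points -/
theorem ptF_eq_of_relF {c : (List ℕ × ℕ × List ℕ × ℕ) × List ℕ} (h : relF c = true) :
    ptF (c.1.1, c.1.2.1) = ptF (c.1.2.2.1, c.1.2.2.2) :=
  point_eq_of_relOKb n_le hbaseF good_czF good_gcodes chk_scodes C0F hC0F trv_mem h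

/-- the product of the involutions of the points of a list of palindromes -/
theorem prod_Tq0_many (l : List (List ℕ × ℕ)) :
    ((l.map ptF).map (Tq0 tF C0F hC0F)).prod = ((manyW l).map tGF).prod := by
  induction l with
  | nil => simp [manyW]
  | cons p l ih =>
    unfold manyW at ih ⊢
    rw [List.map_cons, List.map_cons, List.prod_cons, ih, List.flatMap_cons, List.map_append, List.prod_append]
    congr 1
    unfold ptF
    rw [Tq0_palP0 tF_sq]
    rfl

theorem odd_prod : ((oddL.map ptF).map (Tq0 tF C0F hC0F)).prod = 1 := by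
  rw [prod_Tq0_many]
  exact oddW_prod

theorem odd_fix : (oddL.map ptF).Pairwise fun p q => Tq0 tF C0F hC0F q • p = p := by
  rw [List.pairwise_map]
  apply pairwise_of_pairsOf
  intro pq hpq
  obtain ⟨k, hk, rfl⟩ := List.mem_iff_getElem.1 hpq
  have hk21 : k < 21 := by rw [chk_fix.2] at hk; exact hk
  have h := List.all_eq_true.1 chk_fix.1 k (List.mem_range.2 hk21)
  rw [List.getD_eq_getElem _ _ hk] at h
  have e := ptF_eq_of_relF h
  unfold ptF
  rw [Tq0_smul_palP0 tF_sq]
  exact e

/-! ### the words of the certificates are trivial on the lifts -/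

section lifts

variable {E : Type*} [Group E] {σ : E →* ↥PF} (Λ : Lifts σ (Tq0 tF C0F hC0F))

/-- the lifts of the nine transpositions -/
noncomputable def γL (i : ℕ) : E := Λ.L (xF i)

theorem γL_sq (i : ℕ) : γL Λ i * γL Λ i = 1 := Λ.sq _

theorem word_of_relF {c : (List ℕ × ℕ × List ℕ × ℕ) × List ℕ} (h : relF c = true) :
    ((longW c.1).map (γL Λ)).prod = 1 := by
  unfold longW
  exact prod_coincide0 Λ xF (ptF_eq_of_relF h)

theorem word_getD {l : List ((List ℕ × ℕ × List ℕ × ℕ) × List ℕ)} (hl : l.all relF = true) (k : ℕ) :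
    ((longW (l.getD k c0w).1).map (γL Λ)).prod = 1 := by
  apply word_of_relF
  by_cases hk : k < l.length
  · rw [List.getD_eq_getElem _ _ hk]
    exact List.all_eq_true.1 hl _ (List.getElem_mem hk)
  · rw [List.getD_eq_default _ _ (by omega)]
    exact chk_c0w

theorem oddW_eq_one (hodd : ((oddL.map ptF).map Λ.L).prod = 1) : (oddW.map (γL Λ)).prod = 1 := by
  unfold oddW
  have := prod_manyW Λ xF oddL
  exact this.trans hodd

theorem sq_word : (([0, 0] : List ℕ).map (γL Λ)).prod = 1 := by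
  simp only [List.map_cons, List.map_nil, List.prod_cons, List.prod_nil, mul_one]
  exact γL_sq Λ 0

theorem hW_of {o : List ℕ} (ho : (o.map (γL Λ)).prod = 1)
    {l : List ((List ℕ × ℕ × List ℕ × ℕ) × List ℕ)} (hl : l.all relF = true) :
    ∀ k, ((WS o l k).map (γL Λ)).prod = 1
  | 0 => ho
  | (k + 1) => word_getD Λ hl k

end lifts

theorem hL_of {g : ℕ} (hg : 0 < g) {o : List ℕ} (ho : ∀ x ∈ o, x < g)
    {l : List ((List ℕ × ℕ × List ℕ × ℕ) × List ℕ)}
    (hl : l.all (fun c => letOK g c.1) = true) : ∀ k, ∀ x ∈ WS o l k, x < g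
  | 0 => ho
  | (k + 1) => lt_getD hg hl k

theorem sq_lt {g : ℕ} (hg : 0 < g) : ∀ x ∈ ([0, 0] : List ℕ), x < g := by
  intro x hx
  simp only [List.mem_cons, List.not_mem_nil, or_false, or_self] at hx
  omega

theorem oddW_lt' {g : ℕ} (hg : 8 ≤ g) : ∀ x ∈ oddW, x < g := fun x hx => lt_of_lt_of_le (oddW_lt x hx) hg

/-! ### the bound -/

theorem hallA0 : ∀ a, a < certA0.n → ∀ x, x < certA0.g → certA0.slotOK a x = true := by
  intro a ha x hx
  have ha' : a < 720 := ha
  exact certA0.slot_of_rows chk_certA0_0 (Nat.zero_le _) (by omega) hx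

theorem hallA1 : ∀ a, a < certA1.n → ∀ x, x < certA1.g → certA1.slotOK a x = true := by
  intro a ha x hx
  have ha' : a < 72 := ha
  exact certA1.slot_of_rows chk_cA1 (Nat.zero_le _) (by omega) hx

theorem hallA2 : ∀ a, a < certA2.n → ∀ x, x < certA2.g → certA2.slotOK a x = true := by
  intro a ha x hx
  have ha' : a < 756 := ha
  exact certA2.slot_of_rows chk_certA2_0 (Nat.zero_le _) (by omega) hx

theorem hallA3 : ∀ a, a < certA3.n → ∀ x, x < certA3.g → certA3.slotOK a x = true := by
  intro a ha x hx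
  have ha' : a < 2816 := ha
  rcases Nat.lt_or_ge a 768 with h0 | h0
  · exact certA3.slot_of_rows chk_certA3_0 (Nat.zero_le _) (by omega) hx
  rcases Nat.lt_or_ge a 1536 with h1 | h1
  · exact certA3.slot_of_rows chk_certA3_1 h0 (by omega) hx
  rcases Nat.lt_or_ge a 2304 with h2 | h2
  · exact certA3.slot_of_rows chk_certA3_2 h1 (by omega) hx
  exact certA3.slot_of_rows chk_certA3_3 h2 (by omega) hx

theorem hallA4 : ∀ a, a < certA4.n → ∀ x, x < certA4.g → certA4.slotOK a x = true := by
  intro a ha x hx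
  have ha' : a < 3510 := ha
  rcases Nat.lt_or_ge a 810 with h0 | h0
  · exact certA4.slot_of_rows chk_certA4_0 (Nat.zero_le _) (by omega) hx
  rcases Nat.lt_or_ge a 1620 with h1 | h1
  · exact certA4.slot_of_rows chk_certA4_1 h0 (by omega) hx
  rcases Nat.lt_or_ge a 2430 with h2 | h2
  · exact certA4.slot_of_rows chk_certA4_2 h1 (by omega) hx
  rcases Nat.lt_or_ge a 3240 with h3 | h3
  · exact certA4.slot_of_rows chk_certA4_3 h2 (by omega) hx
  exact certA4.slot_of_rows chk_certA4_4 h3 (by omega) hx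

/-- **a finite stem extension of `PF` has at most `6 |PF|` elements** -/
theorem card_stem_le {E : Type*} [Group E] [Finite E] (σ : E →* ↥PF)
    (hsurj : Function.Surjective σ) (hcen : σ.ker ≤ Subgroup.center E) (hder : σ.ker ≤ commutator E) :
    Nat.card E ≤ 387370509926400 := by
  obtain ⟨Λ, hodd⟩ := exists_lifts_odd_sub tF C0F hC0F hsurj hcen tF_sq perfect_C0F (oddL.map ptF) 3
    (by rw [List.length_map, chk_kpar.2.2.2]) odd_prod odd_fix
  set γ := γL Λ with hγ
  have hinv : ∀ x, γ x * γ x = 1 := γL_sq Λ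
  -- the lifts generate
  have htop : seg γ 9 = ⊤ := by
    have := Λ.closure_eq_top hcen hder (xF '' Set.Iio 9) ⟨xF 0, 0, by norm_num, rfl⟩ (by
      rw [Set.image_image]
      exact closure_tGF)
    rw [Set.image_image] at this
    exact this
  have hoddW : (oddW.map γ).prod = 1 := oddW_eq_one Λ hodd
  have hsqW : (([0, 0] : List ℕ).map γ).prod = 1 := sq_word Λ
  -- the five certificates
  have hW0 : ∀ k, ((certA0.W k).map γ).prod = 1 := hW_of Λ hsqW chk_rel0
  have hW1 : ∀ k, ((certA1.W k).map γ).prod = 1 := hW_of Λ hsqW chk_rel1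
  have hW2 : ∀ k, ((certA2.W k).map γ).prod = 1 := hW_of Λ hsqW chk_rel2
  have hW3 : ∀ k, ((certA3.W k).map γ).prod = 1 := hW_of Λ hoddW chk_rel3
  have hW4 : ∀ k, ((certA4.W k).map γ).prod = 1 := hW_of Λ hoddW chk_rel4
  have hL0 : ∀ k, ∀ x ∈ certA0.W k, x < certA0.g := hL_of (g := 5) (by norm_num) (sq_lt (by norm_num)) chk_letF.1
  have hL1 : ∀ k, ∀ x ∈ certA1.W k, x < certA1.g := hL_of (g := 6) (by norm_num) (sq_lt (by norm_num)) chk_letF.2.1
  have hL2 : ∀ k, ∀ x ∈ certA2.W k, x < certA2.g :=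
    hL_of (g := 7) (by norm_num) (sq_lt (by norm_num)) chk_letF.2.2.1
  have hL3 : ∀ k, ∀ x ∈ certA3.W k, x < certA3.g :=
    hL_of (g := 8) (by norm_num) (oddW_lt' (by norm_num)) chk_letF.2.2.2.1
  have hL4 : ∀ k, ∀ x ∈ certA4.W k, x < certA4.g :=
    hL_of (g := 9) (by norm_num) (oddW_lt' (by norm_num)) chk_letF.2.2.2.2
  have hfin0 : Finite ↥(seg γ certA0.nsub) := by
    show Finite ↥(seg γ 0)
    rw [seg_zero]
    infer_instance
  obtain ⟨hfin1, hc1⟩ := card_seg_le γ certA0 hinv hW0 hL0 (Nat.zero_le _) (show 0 < 720 by norm_num) hallA0 hfin0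
  have hc1' : Nat.card ↥(seg γ 5) ≤ 720 := by
    have h0 : Nat.card ↥(seg γ certA0.nsub) = 1 := by
      show Nat.card ↥(seg γ 0) = 1
      rw [seg_zero]
      exact Subgroup.card_bot
    rw [h0] at hc1
    exact hc1
  obtain ⟨hfin2, hc2⟩ := card_seg_le γ certA1 hinv hW1 hL1 (show 5 ≤ 6 by norm_num) (show 0 < 72 by norm_num) hallA1 hfin1
  have hc2' : Nat.card ↥(seg γ 6) ≤ 72 * 720 := le_trans hc2 (Nat.mul_le_mul_left _ hc1')
  obtain ⟨hfin3, hc3⟩ := card_seg_le γ certA2 hinv hW2 hL2 (show 6 ≤ 7 by norm_num) (show 0 < 756 by norm_num) hallA2 hfin2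
  have hc3' : Nat.card ↥(seg γ 7) ≤ 756 * (72 * 720) := le_trans hc3 (Nat.mul_le_mul_left _ hc2')
  obtain ⟨hfin4, hc4⟩ := card_seg_le γ certA3 hinv hW3 hL3 (show 7 ≤ 8 by norm_num) (show 0 < 2816 by norm_num) hallA3 hfin3
  have hc4' : Nat.card ↥(seg γ 8) ≤ 2816 * (756 * (72 * 720)) := le_trans hc4 (Nat.mul_le_mul_left _ hc3')
  obtain ⟨_, hc5⟩ := card_seg_le γ certA4 hinv hW4 hL4 (show 8 ≤ 9 by norm_num) (show 0 < 3510 by norm_num) hallA4 hfin4
  have hc5' : Nat.card ↥(seg γ 9) ≤ 3510 * (2816 * (756 * (72 * 720))) := le_trans hc5 (Nat.mul_le_mul_left _ hc4')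
  rw [htop, Subgroup.card_top] at hc5'
  exact hc5'

end Cfsg.Agent.Lib.Helper5.Fi22Mult
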