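import Cfsg.Agent.Lib.Helper5.Fi22Mult.D
import Cfsg.Agent.Lib.Helper5.Fi22Cov.Cov
import Cfsg.Agent.Lib.Helper5.SuzMult.Mult
import Cfsg.Agent.Lib.Helper5.J3MultE

/-!
# The Schur multiplier of the Fischer group `Fi22` is cyclic of order six

The cover `D → Fi22` of `Fi22Cov` is a stem extension with cyclic kernel of order `6`, and every finite stem extension of
the group `PF` of permutations of 3510 points has at most `6 |PF| = |D|` elements (`card_stem_le`); hence the kernel of
every finite stem extension is a quotient of the kernel of `D → Fi22`.  The bound is transported to the presented group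
along the isomorphism `isoPF`.
-/

set_option autoImplicit false

namespace Cfsg.Agent.Lib.Helper5.Fi22Mult

open Cfsg Cfsg.Spor
open Cfsg.Agent.Lib.Helper5.J3Mult (exists_ker_surjective)
open Cfsg.Agent.Lib.Helper5.SuzMult (perfect_of_surj stem_comp_equiv)
open Cfsg.Agent.Lib.Helper5.Fi22Cov (D πD stem_πD card_D card_ker_πD isCyclic_ker_πD)

/-- **the presented group `Fi22` is perfect** -/
theorem perfect_Fi22 : commutator Fi22 = ⊤ :=
  perfect_of_surj isoPF.symm.toMonoidHom isoPF.symm.surjective perfect_PF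

/-- **the Schur multiplier of `Fi22` is cyclic of order six** -/
theorem multiplier_Fi22 : HasCyclicSchurMultiplier Fi22 6 := by
  have hfinD : Finite ↥D := inferInstance
  have hk6 : Nat.card ↥πD.ker = 6 := card_ker_πD
  have hcyc : IsCyclic ↥πD.ker := isCyclic_ker_πD
  have hz6 : Nat.card (Multiplicative (ZMod 6)) = 6 := by
    rw [Nat.card_eq_fintype_card, Fintype.card_multiplicative, ZMod.card]
  have e : Multiplicative (ZMod 6) ≃* ↥πD.ker := mulEquivOfCyclicCardEq (hz6.trans hk6.symm)
  refine ⟨⟨↥D, inferInstance, hfinD, πD, stem_πD, ⟨e.symm⟩⟩, ?_⟩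
  intro E _ _ σ hσ
  obtain ⟨f, hf⟩ := exists_ker_surjective πD stem_πD σ hσ perfect_Fi22 (fun D' _ _ ρ hρ => by
    rw [card_D]
    obtain ⟨hρ', -⟩ := stem_comp_equiv isoPF hρ
    exact card_stem_le _ hρ'.1 hρ'.2.1 hρ'.2.2)
  exact ⟨f.comp e.toMonoidHom, hf.comp e.surjective⟩

end Cfsg.Agent.Lib.Helper5.Fi22Mult
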