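import Mathlib
import Cfsg.Agent.Lib.Helper8.J2MultA
import Cfsg.Agent.Lib.Helper5.SuzMult.A

/-!
# Lifts of a class of involutions, normalised by an odd number of commuting members with trivial product

helper8's `CanonLift.exists_lifts` normalises the equivariant lifts of a class of involutions by a commuting pair whose
product lies in the class.  In a class of 3-transpositions there is no such pair; instead an odd number of pairwise
commuting members whose product is trivial is used: if `ζ` is the common square of the first lifts and `α` their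
product along the list, then `α² = ζ ^ (2 m + 1)`, and the lifts multiplied by `α⁻¹ ζ ^ m` are involutions whose product
along the list is trivial.
-/

set_option autoImplicit false

namespace Cfsg.Agent.Lib.Helper5.Fi22Mult

open Cfsg.Agent.Lib.Helper8.CanonLift
open Cfsg.Agent.Lib.Helper5.SuzMult (Tq0 Tq0_conj Tq0_sq palP0 prod_palW0)
open Cfsg.Agent.Lib.Helper5.J3Mult (Cz palW perfect_congr)

/-- the square of a product of pairwise commuting elements with a common central square -/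
theorem sq_prod_of_comm {Γ : Type*} [Group Γ] (ζ : Γ) (hζ : ∀ y : Γ, ζ * y = y * ζ) :
    ∀ l : List Γ, l.Pairwise (fun p q => p * q = q * p) → (∀ p ∈ l, p * p = ζ) →
      l.prod * l.prod = ζ ^ l.length
  | [], _, _ => by simp
  | p :: l, hp, hs => by
    rw [List.pairwise_cons] at hp
    have ih := sq_prod_of_comm ζ hζ l hp.2 (fun q hq => hs q (List.mem_cons_of_mem _ hq))
    have hc : Commute p l.prod := Commute.list_prod_right l p (fun q hq => hp.1 q hq)
    rw [List.prod_cons, List.length_cons, pow_succ']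
    calc p * l.prod * (p * l.prod) = p * (l.prod * p) * l.prod := by group
      _ = p * (p * l.prod) * l.prod := by rw [hc.eq]
      _ = (p * p) * (l.prod * l.prod) := by group
      _ = ζ * ζ ^ l.length := by rw [hs p List.mem_cons_self, ih]

/-- the product of a list of elements each multiplied by a central element -/
theorem prod_map_mul_central {Γ X : Type*} [Group Γ] (μ : Γ) (hμ : ∀ y : Γ, μ * y = y * μ) (f : X → Γ) :
    ∀ l : List X, (l.map fun x => f x * μ).prod = (l.map f).prod * μ ^ l.length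
  | [] => by simp
  | x :: l => by
    rw [List.map_cons, List.prod_cons, prod_map_mul_central μ hμ f l, List.map_cons, List.prod_cons,
      List.length_cons, pow_succ']
    calc f x * μ * ((l.map f).prod * μ ^ l.length) = f x * (μ * (l.map f).prod) * μ ^ l.length := by group
      _ = f x * ((l.map f).prod * μ) * μ ^ l.length := by rw [hμ]
      _ = f x * (l.map f).prod * (μ * μ ^ l.length) := by group

/-- the factor that normalises the lifts -/
theorem norm_factor {Γ : Type*} [Group Γ] {α ζ : Γ} (hαζ : α * ζ = ζ * α) (m : ℕ)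
    (h : α * α = ζ ^ (2 * m + 1)) :
    (α⁻¹ * ζ ^ m) * (α⁻¹ * ζ ^ m) = ζ⁻¹ ∧ α * (α⁻¹ * ζ ^ m) ^ (2 * m + 1) = 1 := by
  have hc : Commute α ζ := hαζ
  have hc' : Commute α⁻¹ (ζ ^ m) := hc.inv_left.pow_right m
  have h1 : (α⁻¹ * ζ ^ m) * (α⁻¹ * ζ ^ m) = ζ⁻¹ := by
    calc (α⁻¹ * ζ ^ m) * (α⁻¹ * ζ ^ m) = α⁻¹ * (ζ ^ m * α⁻¹) * ζ ^ m := by group
      _ = α⁻¹ * (α⁻¹ * ζ ^ m) * ζ ^ m := by rw [hc'.eq]
      _ = (α * α)⁻¹ * (ζ ^ m * ζ ^ m) := by group
      _ = (ζ ^ (2 * m + 1))⁻¹ * ζ ^ (2 * m) := by rw [h, ← pow_add, two_mul]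
      _ = ζ⁻¹ := by rw [pow_succ, mul_inv_rev, inv_mul_cancel_right]
  refine ⟨h1, ?_⟩
  have h2 : (α⁻¹ * ζ ^ m) ^ (2 * m + 1) = (ζ⁻¹) ^ m * (α⁻¹ * ζ ^ m) := by
    rw [pow_succ, pow_mul, pow_two, h1]
  have hc2 : Commute ((ζ⁻¹) ^ m) α⁻¹ := (hc.inv_left.inv_right.pow_right m).symm
  rw [h2]
  calc α * ((ζ⁻¹) ^ m * (α⁻¹ * ζ ^ m)) = α * ((ζ⁻¹) ^ m * α⁻¹) * ζ ^ m := by group
    _ = α * (α⁻¹ * (ζ⁻¹) ^ m) * ζ ^ m := by rw [hc2.eq]
    _ = (ζ⁻¹) ^ m * ζ ^ m := by group
    _ = 1 := by rw [inv_pow, inv_mul_cancel]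

section exist

variable {Γ G X : Type*} [Group Γ] [Group G] [MulAction G X] {σ : Γ →* G} {T : X → G}

/-- **the equivariant family of involutions, normalised by an odd number of commuting members** -/
theorem exists_lifts_odd (hsurj : Function.Surjective σ) (hcen : σ.ker ≤ Subgroup.center Γ)
    (hT : ∀ (g : G) (x : X), g * T x * g⁻¹ = T (g • x)) (hsq : ∀ x, T x * T x = 1)
    [MulAction.IsPretransitive G X] (x₀ : X)
    (hperf : commutator ↥(MulAction.stabilizer G x₀) = ⊤)
    (ps : List X) (m : ℕ) (hlen : ps.length = 2 * m + 1) (hprod : (ps.map T).prod = 1)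
    (hfix : ps.Pairwise fun p q => T q • p = p) :
    ∃ Λ : Lifts σ T, (ps.map Λ.L).prod = 1 := by
  obtain ⟨t₀, ht₀⟩ := hsurj (T x₀)
  have key := stab_centralizes hsurj hcen hT x₀ hperf t₀ ht₀
  choose gX hgX using fun x : X => MulAction.exists_smul_eq G x₀ x
  choose lX hlX using fun x : X => hsurj (gX x)
  obtain ⟨L₀, map₀, conj₀⟩ : ∃ L₀ : X → Γ, (∀ x, σ (L₀ x) = T x) ∧
      ∀ (h : Γ) (x : X), h * L₀ x * h⁻¹ = L₀ (σ h • x) := by
    refine ⟨fun x => lX x * t₀ * (lX x)⁻¹, ?_, ?_⟩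
    · intro x
      show σ (lX x * t₀ * (lX x)⁻¹) = T x
      rw [map_mul, map_mul, map_inv, ht₀, hlX, hT, hgX]
    · intro h x
      set y := σ h • x with hy
      set k := (lX y)⁻¹ * h * lX x with hk
      have hkx : σ k • x₀ = x₀ := by
        rw [hk, map_mul, map_mul, map_inv, hlX, hlX, mul_smul, mul_smul, hgX, ← hy, inv_smul_eq_iff,
          hgX]
      have e := key k hkx
      show h * (lX x * t₀ * (lX x)⁻¹) * h⁻¹ = lX y * t₀ * (lX y)⁻¹
      calc h * (lX x * t₀ * (lX x)⁻¹) * h⁻¹ = lX y * (k * t₀ * k⁻¹) * (lX y)⁻¹ := by rw [hk]; group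
        _ = lX y * t₀ * (lX y)⁻¹ := by rw [e]
  have sqx₀ : ∀ x, ∃ l : Γ, l * L₀ x₀ * l⁻¹ = L₀ x := by
    intro x
    refine ⟨lX x, ?_⟩
    rw [conj₀, hlX, hgX]
  -- the common square
  set ζ := L₀ x₀ * L₀ x₀ with hζ
  have hζk : σ ζ = 1 := by rw [hζ, map_mul, map₀, hsq]
  have hζc := comm_of_ker σ hcen hζk
  have sq₀ : ∀ x, L₀ x * L₀ x = ζ := by
    intro x
    obtain ⟨l, h1⟩ := sqx₀ x
    rw [← h1]
    calc l * L₀ x₀ * l⁻¹ * (l * L₀ x₀ * l⁻¹) = l * (L₀ x₀ * L₀ x₀) * l⁻¹ := by group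
      _ = l * ζ * l⁻¹ := by rw [hζ]
      _ = ζ := by rw [← hζc l]; group
  -- the product along the list
  set α := (ps.map L₀).prod with hα
  have hαk : σ α = 1 := by
    rw [hα, map_list_prod, List.map_map, ← hprod]
    congr 1
    apply List.map_congr_left
    intro x _
    exact map₀ x
  have hαc := comm_of_ker σ hcen hαk
  have hpair : (ps.map L₀).Pairwise (fun p q => p * q = q * p) := by
    rw [List.pairwise_map]
    refine hfix.imp ?_
    intro p q hpq
    have h1 := conj₀ (L₀ q) p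
    rw [map₀, hpq] at h1
    calc L₀ p * L₀ q = (L₀ q * L₀ p * (L₀ q)⁻¹) * L₀ q := by rw [h1]
      _ = L₀ q * L₀ p := by group
  have hα2 : α * α = ζ ^ (2 * m + 1) := by
    have := sq_prod_of_comm ζ hζc (ps.map L₀) hpair (by
      intro p hp
      obtain ⟨x, -, rfl⟩ := List.mem_map.1 hp
      exact sq₀ x)
    rw [List.length_map, hlen] at this
    exact this
  obtain ⟨hμ2, hμp⟩ := norm_factor (hαc ζ) m hα2
  set μ := α⁻¹ * ζ ^ m with hμ
  have hμk : σ μ = 1 := by rw [hμ, map_mul, map_inv, map_pow, hαk, hζk, inv_one, one_pow, one_mul]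
  have hμc := comm_of_ker σ hcen hμk
  refine ⟨⟨fun x => L₀ x * μ, ?_, ?_, ?_⟩, ?_⟩
  · intro x
    rw [map_mul, map₀, hμk, mul_one]
  · intro h x
    show h * (L₀ x * μ) * h⁻¹ = L₀ (σ h • x) * μ
    rw [← conj₀ h x]
    calc h * (L₀ x * μ) * h⁻¹ = h * L₀ x * (μ * h⁻¹) := by group
      _ = h * L₀ x * (h⁻¹ * μ) := by rw [hμc]
      _ = h * L₀ x * h⁻¹ * μ := by group
  · intro x
    show L₀ x * μ * (L₀ x * μ) = 1
    calc L₀ x * μ * (L₀ x * μ) = L₀ x * (μ * L₀ x) * μ := by group
      _ = L₀ x * (L₀ x * μ) * μ := by rw [hμc]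
      _ = (L₀ x * L₀ x) * (μ * μ) := by group
      _ = 1 := by rw [sq₀, hμ2, mul_inv_cancel]
  · show (ps.map fun x => L₀ x * μ).prod = 1
    rw [prod_map_mul_central μ hμc L₀ ps, hlen]
    exact hμp

end exist

/-! ### the version for the cosets of a perfect subgroup of the centraliser -/

section quot

variable {G : Type*} [Group G] (t0 : G) (C0 : Subgroup G) (hC0 : C0 ≤ Cz t0)

/-- **the lifts of the conjugates of `t0`**, indexed by the cosets of a perfect subgroup of the centraliser and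
normalised by an odd number of commuting conjugates with trivial product -/
theorem exists_lifts_odd_sub {E : Type*} [Group E] {σ : E →* G} (hsurj : Function.Surjective σ)
    (hcen : σ.ker ≤ Subgroup.center E) (h0 : t0 * t0 = 1) (hperf : commutator ↥C0 = ⊤)
    (ps : List (G ⧸ C0)) (m : ℕ) (hlen : ps.length = 2 * m + 1)
    (hprod : (ps.map (Tq0 t0 C0 hC0)).prod = 1)
    (hfix : ps.Pairwise fun p q => Tq0 t0 C0 hC0 q • p = p) :
    ∃ Λ : Lifts σ (Tq0 t0 C0 hC0), (ps.map Λ.L).prod = 1 :=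
  exists_lifts_odd hsurj hcen (Tq0_conj t0 C0 hC0) (Tq0_sq t0 C0 hC0 h0) ((1 : G) : G ⧸ C0)
    (perfect_congr (MulAction.stabilizer_quotient C0) hperf) ps m hlen hprod hfix

variable {t0 C0 hC0}
variable {E : Type*} [Group E] {σ : E →* G} (Λ : Lifts σ (Tq0 t0 C0 hC0)) (x : ℕ → G ⧸ C0)

/-- the word of a list of palindromes -/
def manyW (l : List (List ℕ × ℕ)) : List ℕ := l.flatMap fun p => palW p.1 p.2

/-- the product of the lifts along a list of palindromes -/
theorem prod_manyW (l : List (List ℕ × ℕ)) :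
    ((manyW l).map fun i => Λ.L (x i)).prod = ((l.map fun p => palP0 t0 C0 hC0 x p.1 p.2).map Λ.L).prod := by
  induction l with
  | nil => simp [manyW]
  | cons p l ih =>
    unfold manyW at ih ⊢
    rw [List.flatMap_cons, List.map_append, List.prod_append, ih, prod_palW0, List.map_cons, List.map_cons,
      List.prod_cons]

end quot

end Cfsg.Agent.Lib.Helper5.Fi22Mult
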