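import Cfsg.Agent.Lib.Helper5.Fi22Mult.Chk0
import Cfsg.Agent.Lib.Helper5.Fi22Mult.Chk0b
import Cfsg.Agent.Lib.Helper5.Fi22Mult.Chk1
import Cfsg.Agent.Lib.Helper5.SuzMult.Gen
import Cfsg.Agent.Lib.Lead.CoxOut.Fi22Out

/-!
# The Fischer group `Fi22` on 3510 points: a family of nine transpositions and the centraliser of `a`

`PF` is lead's group of permutations of the 3510 rows of the coset table of the presented group `Fi22`.  The base
involution is the generator `a`; nine conjugates of it (transpositions) form the family of the bound for the stem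
extensions.  The first eight of them commute with `a` and generate a subgroup `C0F` of the centraliser (in fact the whole
centraliser `2·U₆(2)`), which is perfect: they are involutions, each has a product of order three with its parent, and a
word of odd length in them (seven commuting transpositions with trivial product) is trivial.  Elements of `PF` are
compared on the five points of the base of lead's chain of trees.
-/

set_option autoImplicit false
set_option maxRecDepth 100000

namespace Cfsg.Agent.Lib.Helper5.Fi22Mult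

open Cfsg Cfsg.Spor Cfsg.Agent.PL Cfsg.Agent.PL.Cox Cfsg.Agent.Lib.Helper6 Cfsg.Agent.Lib.Helper6.TC
open Cfsg.Agent.CoxOut.Fi22 (gl cgs ρ_inj setup)
open Cfsg.Agent.PG (fixer fixer_nil)
open Cfsg.Agent.Lib.Helper5.J3Mult (Cz)
open Cfsg.Agent.Lib.Helper5.SuzMult

/-- the Fischer group on 3510 points -/
noncomputable def PF : Subgroup (Equiv.Perm (Fin 3510)) := Cfsg.Agent.CoxOut.Fi22.P

theorem n_le : (3510 : ℕ) ≤ 4096 := by norm_num

theorem card_PF : Nat.card ↥PF = 64561751654400 := Cfsg.Agent.CoxOut.Fi22.card_P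

/-- the isomorphism with the presented group -/
noncomputable def isoPF : Fi22 ≃* ↥PF := Cox.iso Fi22TC.data ρ_inj

/-- the generators -/
noncomputable def genPF (x : ℕ) : ↥PF := genP Fi22TC.data x

/-- the list of the generators -/
noncomputable def gensPF : List ↥PF := gl.map genPF

theorem regsPF : RegsOK PF gensPF cgs := Cfsg.Agent.CoxOut.Fi22.regs_ok

theorem isoPF_of (x : ℕ) : isoPF (PresentedGroup.of (Fi22TC.data.gen x)) = genPF x := rfl

/-- a subgroup that contains the generators is everything -/
theorem eq_top_of_gens (K : Subgroup ↥PF) (h : ∀ g ∈ gensPF, g ∈ K) : K = ⊤ := by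
  have h1 : K.comap isoPF.toMonoidHom = ⊤ := by
    rw [eq_top_iff, ← PresentedGroup.closure_range_of, Subgroup.closure_le]
    rintro _ ⟨y, rfl⟩
    obtain ⟨hlt, hgen⟩ := Fi22TC.data.hcode y
    have hlt' : Fi22TC.data.code y < 9 := hlt
    rw [SetLike.mem_coe, Subgroup.mem_comap, ← hgen]
    show isoPF (PresentedGroup.of (Fi22TC.data.gen (Fi22TC.data.code y))) ∈ K
    rw [isoPF_of]
    apply h
    have hmem : Fi22TC.data.code y ∈ gl := by
      unfold gl
      generalize Fi22TC.data.code y = x at hlt'
      interval_cases x <;> simp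
    exact List.mem_map.2 ⟨Fi22TC.data.code y, hmem, rfl⟩
  rw [eq_top_iff]
  intro y _
  have : isoPF.symm y ∈ K.comap isoPF.toMonoidHom := by rw [h1]; exact Subgroup.mem_top _
  rw [Subgroup.mem_comap] at this
  simpa using this

/-! ### the base -/

/-- **an element of `PF` that fixes the five points of the base is trivial** -/
theorem hbaseF : ∀ g ∈ PF, (∀ β ∈ baseF, ∀ hb : β < 3510, g ⟨β, hb⟩ = ⟨β, hb⟩) → g = 1 := by
  intro g hg hfix
  have hcard : Nat.card ↥(fixer PF []) ≤ (treeCounts 3510 setup.fuel (setup.LA :: setup.LsA)).prod := by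
    rw [fixer_nil]
    exact le_of_eq (setup.hN.trans setup.chk_countsA.symm)
  refine eq_one_of_fixes n_le PF setup.fuel (setup.LA :: setup.LsA) [] setup.chk_treeA setup.hcA hcard g
    (by rw [fixer_nil]; exact hg) ?_
  intro L hL hb
  apply hfix
  have h1 : (setup.LA :: setup.LsA).map (fun L => L.1) = baseF := by decide
  rw [← h1]
  exact List.mem_map.2 ⟨L, hL, rfl⟩

/-! ### the family -/

theorem good_cgs : ∀ c ∈ cgs, Good PF c := good_of_regs regsPF

theorem good_czF : Good PF czF := good_cgs _ (by unfold czF cgs; exact List.mem_cons_self)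

theorem hsqF : pmul 3510 czF czF = pone 3510 := Nat.eq_of_beq_eq_true chk_cz

theorem good_gcodes : ∀ c ∈ gcodesL, Good PF c := by
  rw [← chk_gcodes]
  intro c hc
  rw [List.mem_map] at hc
  obtain ⟨w, -, rfl⟩ := hc
  exact (wordG_spec n_le good_cgs w).1

/-- the base involution -/
noncomputable def tF : ↥PF := tz PF czF

theorem tF_sq : tF * tF = 1 := tz_sq n_le good_czF hsqF

/-- the members of the family -/
noncomputable def tGF (i : ℕ) : ↥PF := tG PF czF gcodesL i

theorem tGF_sq (i : ℕ) : tGF i * tGF i = 1 := tG_sq n_le good_czF hsqF i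

theorem code_tGF (i : ℕ) : Good PF (scodesL.getD i czF) ∧ el PF (scodesL.getD i czF) = tGF i :=
  code_tG n_le good_czF good_gcodes chk_scodes i

theorem acts_tGF (i : ℕ) : Acts (tGF i).1 (lk (scodesL.getD i czF)) := by
  rw [← (code_tGF i).2]
  exact acts_el n_le (code_tGF i).1

theorem acts_tF : Acts tF.1 (lk czF) := acts_el n_le good_czF

/-- a word in the family that fixes the points of the base is trivial -/
theorem prod_tGF_eq_one {w : List ℕ} (h : wordOKb czF scodesL baseF w.reverse = true) :
    (w.map tGF).prod = 1 :=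
  prod_eq_one_of_wordOKb n_le hbaseF good_czF good_gcodes chk_scodes h

/-! ### the subgroup of the centraliser -/

theorem tGF_comm {i : ℕ} (hi : i < 8) : tGF i * tF = tF * tGF i := by
  have h := List.all_eq_true.1 chk_comm i (List.mem_range.2 hi)
  have a1 := (acts_tGF i).mul acts_tF
  have a2 := acts_tF.mul (acts_tGF i)
  rw [← Subgroup.coe_mul] at a1 a2
  refine eq_of_acts_base hbaseF a1 a2 ?_
  intro β hβ
  exact Nat.eq_of_beq_eq_true (List.all_eq_true.1 h β hβ)

/-- the subgroup of the centraliser -/
noncomputable def C0F : Subgroup ↥PF := Subgroup.closure (tGF '' Set.Iio 8)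

theorem tGF_mem {i : ℕ} (hi : i < 8) : tGF i ∈ C0F := Subgroup.subset_closure ⟨i, hi, rfl⟩

theorem hC0F : C0F ≤ Cz tF := by
  unfold C0F
  rw [Subgroup.closure_le]
  rintro _ ⟨i, hi, rfl⟩
  rw [SetLike.mem_coe, Cz, Subgroup.mem_centralizer_singleton_iff]
  exact tGF_comm hi

theorem kpar_lt : ∀ i, i < 8 → kpar i < 8 := by
  intro i hi
  interval_cases i <;> decide

theorem kpar_root : ∀ i, i < 8 → kpar^[8] i = 0 := by
  intro i hi
  interval_cases i <;> decide

theorem tGF_link : ∀ i, i < 8 → (tGF i * tGF (kpar i)) ^ 3 = 1 := by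
  intro i hi
  have h := List.all_eq_true.1 chk_link i (List.mem_range.2 hi)
  have e := prod_tGF_eq_one (w := [i, kpar i, i, kpar i, i, kpar i]) h
  simp only [List.map_cons, List.map_nil, List.prod_cons, List.prod_nil, mul_one] at e
  rw [pow_succ, pow_succ, pow_one]
  simpa only [mul_assoc] using e

theorem oddW_lt : ∀ x ∈ oddW, x < 8 := by
  intro x hx
  have := List.all_eq_true.1 chk_kpar.2.1 x hx
  rwa [Nat.blt_eq] at this

theorem oddW_prod : (oddW.map tGF).prod = 1 := prod_tGF_eq_one chk_odd

/-- **the subgroup of the centraliser is perfect** -/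
theorem perfect_C0F : commutator ↥C0F = ⊤ :=
  perfect_closure_invol tGF 8 kpar (fun i _ => tGF_sq i) kpar_lt tGF_link kpar_root oddW oddW_lt
    chk_kpar.2.2.1 oddW_prod

/-- **the codes of the generators of the centraliser belong to elements of the subgroup** -/
theorem trv_mem : ∀ c ∈ trvF, Good PF c ∧ el PF c ∈ C0F := by
  intro c hc
  unfold trvF at hc
  obtain ⟨i, hi, rfl⟩ := List.mem_iff_getElem.1 hc
  rw [List.length_take] at hi
  have hi8 : i < 8 := lt_of_lt_of_le hi (min_le_left _ _)
  have hil : i < scodesL.length := lt_of_lt_of_le hi (min_le_right _ _)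
  rw [List.getElem_take]
  have e : scodesL[i] = scodesL.getD i czF := (List.getD_eq_getElem _ _ hil).symm
  rw [e]
  exact ⟨(code_tGF i).1, by rw [(code_tGF i).2]; exact tGF_mem hi8⟩

/-! ### `PF` is perfect -/

theorem simple_PF : IsSimpleGroup ↥PF := by
  have : IsSimpleGroup Fi22 := Fi22Simple.main.1
  exact isoPF.symm.isSimpleGroup

theorem tGF_zero_ne : tGF 0 ≠ 1 := by
  intro h
  have h1 : enc 3510 (tGF 0).1 = scodesL.getD 0 czF := by
    rw [← (code_tGF 0).2]
    exact enc_el (code_tGF 0).1
  rw [h] at h1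
  have h2 : enc 3510 ((1 : ↥PF) : Equiv.Perm (Fin 3510)) = pone 3510 := by rw [pone_eq]; rfl
  rw [h2] at h1
  have := chk_s0
  rw [← h1, Nat.beq_refl] at this
  exact Bool.noConfusion this

/-- **`PF` is perfect** -/
theorem perfect_PF : commutator ↥PF = ⊤ := by
  have hs := simple_PF
  rcases hs.eq_bot_or_eq_top_of_normal (commutator ↥PF) inferInstance with h | h
  · exfalso
    have h1 : ⁅C0F, C0F⁆ ≤ commutator ↥PF := by
      rw [commutator_def]
      exact Subgroup.commutator_mono le_top le_top
    rw [h, ← Subgroup.map_subtype_commutator, perfect_C0F, ← MonoidHom.range_eq_map,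
      Subgroup.range_subtype] at h1
    exact tGF_zero_ne (Subgroup.mem_bot.1 (h1 (tGF_mem (by norm_num))))
  · exact h

end Cfsg.Agent.Lib.Helper5.Fi22Mult
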