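import Cfsg.Agent.Lib.Helper5.SuzMult.Fam
import Cfsg.Agent.Lib.Helper5.Fi22Mult.Odd
import Cfsg.Agent.Lib.Lead.PL.Conj2

/-!
# Coincidences of palindromes, checked on the points of a base

`H` is a group of permutations of `n ≤ 4096` points in which an element that fixes the points of the list `bs` is
trivial.  The point of a palindrome in the cosets of a subgroup `C0` of the centraliser of the base involution is the
coset of a product of members of the family and of a conjugating element; two such points coincide as soon as the
products, one of them multiplied by a product of elements of `C0`, have the same images of the points of `bs`.  The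
images are traced through the codes of the factors, no code of a product is computed.
-/

set_option autoImplicit false
set_option maxRecDepth 100000

namespace Cfsg.Agent.Lib.Helper5.Fi22Mult

open Cfsg.Agent.PL
open Cfsg.Agent.Lib.Helper5.SuzMult
open Cfsg.Agent.Lib.Helper5.J3Mult (Cz palW)

/-! ### tracing -/

/-- apply the permutations with the codes `codes[s]`, for the indices `s` of the list, the first index first -/
def trP (cz : ℕ) (codes : List ℕ) : List ℕ → ℕ → ℕ
  | [], q => q
  | s :: h, q => trP cz codes h (lk (codes.getD s cz) q)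

/-- the image of a point under the product of the permutations with the codes `cs[y]`, for the indices `y` of the list
(the last index acts first) -/
def trW (d : ℕ) (cs : List ℕ) : List ℕ → ℕ → ℕ
  | [], q => q
  | y :: w, q => lk (cs.getD y d) (trW d cs w q)

/-- the two palindromes of a coincidence have the same point: the elements differ by a product of elements of the list
`trv`, which is checked on the points of `bs` -/
def relOKb (n cz : ℕ) (codes gcodes trv bs : List ℕ) (c : (List ℕ × ℕ × List ℕ × ℕ) × List ℕ) : Bool :=
  bs.all fun β => Nat.beq (trP cz codes c.1.1 (lk (gcodes.getD c.1.2.1 (pone n)) β))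
    (trP cz codes c.1.2.2.1 (lk (gcodes.getD c.1.2.2.2 (pone n)) (trW (pone n) trv c.2 β)))

/-- the word acts trivially on the points of `bs` -/
def wordOKb (cz : ℕ) (codes bs w : List ℕ) : Bool :=
  bs.all fun β => Nat.beq (trP cz codes w β) β

theorem palW_reverse (h : List ℕ) (c : ℕ) : (palW h c).reverse = palW h c := by
  unfold palW
  rw [List.reverse_append, List.reverse_cons, List.reverse_reverse, List.append_assoc, List.singleton_append]

section base

variable {n : ℕ} (hn : n ≤ 4096) {H : Subgroup (Equiv.Perm (Fin n))} {bs : List ℕ}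
  (hbase : ∀ g ∈ H, (∀ β ∈ bs, ∀ hb : β < n, g ⟨β, hb⟩ = ⟨β, hb⟩) → g = 1)

include hn in
theorem acts_el {c : ℕ} (h : Good H c) : Acts (el H c).1 (lk c) := Acts.of_enc hn (enc_el h)

include hbase in
/-- two elements with the same images of the points of `bs` are equal -/
theorem eq_of_acts_base {g h : ↥H} {f k : ℕ → ℕ} (hg : Acts g.1 f) (hh : Acts h.1 k)
    (hb : ∀ β ∈ bs, f β = k β) : g = h := by
  have h1 : h.1⁻¹ * g.1 = 1 := by
    apply hbase _ (H.mul_mem (H.inv_mem h.2) g.2)
    intro β hβ hb'
    have e : g.1 ⟨β, hb'⟩ = h.1 ⟨β, hb'⟩ := Fin.ext (by rw [hg β hb', hh β hb', hb β hβ])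
    rw [Equiv.Perm.mul_apply, e]
    exact Equiv.Perm.inv_eq_iff_eq.2 rfl
  exact Subtype.ext (inv_mul_eq_one.1 h1).symm

variable {cz : ℕ} {codes gcodes : List ℕ}
variable (hcz : Good H cz) (hg : ∀ c ∈ gcodes, Good H c)
  (hconj : codes = gcodes.map fun g => conjC n g cz)

include hn hcz hg hconj in
/-- the action of a product of members of the family and of an element -/
theorem acts_trP : ∀ (h : List ℕ) (g : ↥H) (f : ℕ → ℕ), Acts g.1 f →
    Acts ((h.reverse.map (tG H cz gcodes)).prod * g).1 (fun q => trP cz codes h (f q))
  | [], g, f, hf => by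
    rw [List.reverse_nil, List.map_nil, List.prod_nil, one_mul]
    exact hf
  | s :: h, g, f, hf => by
    obtain ⟨hs, es⟩ := code_tG hn hcz hg hconj s
    have h1 : Acts (tG H cz gcodes s * g).1 (fun q => lk (codes.getD s cz) (f q)) := by
      rw [← es, Subgroup.coe_mul]
      exact (acts_el hn hs).mul hf
    have h2 := acts_trP h (tG H cz gcodes s * g) _ h1
    rw [List.reverse_cons, List.map_append, List.prod_append, List.map_cons, List.map_nil, List.prod_cons,
      List.prod_nil, mul_one, mul_assoc]
    exact h2

include hn hcz hg hconj in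
/-- the action of a product of members of the family -/
theorem acts_word (w : List ℕ) : Acts ((w.map (tG H cz gcodes)).prod).1 (trP cz codes w.reverse) := by
  have h := acts_trP hn hcz hg hconj w.reverse 1 id Acts.one
  rw [List.reverse_reverse, mul_one] at h
  exact h

include hn hbase hcz hg hconj in
/-- a word in the family that fixes the points of `bs` is trivial -/
theorem prod_eq_one_of_wordOKb {w : List ℕ} (h : wordOKb cz codes bs w.reverse = true) :
    (w.map (tG H cz gcodes)).prod = 1 := by
  apply eq_of_acts_base hbase (acts_word hn hcz hg hconj w) (Acts.one : Acts (1 : ↥H).1 id)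
  intro β hβ
  unfold wordOKb at h
  exact Nat.eq_of_beq_eq_true (List.all_eq_true.1 h β hβ)

include hn in
/-- the action of a product of elements of a list -/
theorem acts_trW {cs : List ℕ} (hcs : ∀ c ∈ cs, Good H c) : ∀ w : List ℕ,
    Acts ((w.map fun y => el H (cs.getD y (pone n))).prod).1 (trW (pone n) cs w)
  | [] => by
    rw [List.map_nil, List.prod_nil]
    exact Acts.one
  | y :: w => by
    rw [List.map_cons, List.prod_cons, Subgroup.coe_mul]
    exact (acts_el hn (good_getD hcs y)).mul (acts_trW hcs w)

/-! ### the cosets of a subgroup of the centraliser -/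

variable (C0 : Subgroup ↥H) (hC0 : C0 ≤ Cz (tz H cz))
variable {trv : List ℕ} (htrv : ∀ c ∈ trv, Good H c ∧ el H c ∈ C0)

include hn htrv in
theorem prod_trv_mem (ys : List ℕ) : (ys.map fun y => el H (trv.getD y (pone n))).prod ∈ C0 := by
  apply Subgroup.list_prod_mem
  intro y hy
  rw [List.mem_map] at hy
  obtain ⟨i, -, rfl⟩ := hy
  by_cases hi : i < trv.length
  · rw [List.getD_eq_getElem _ _ hi]
    exact (htrv _ (List.getElem_mem hi)).2
  · rw [List.getD_eq_default _ _ (by omega), el_pone hn]
    exact C0.one_mem

include hn hbase hcz hg hconj htrv in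
/-- **a coincidence checked on the points of the base gives the equality of two points** -/
theorem point_eq_of_relOKb {c : (List ℕ × ℕ × List ℕ × ℕ) × List ℕ}
    (h : relOKb n cz codes gcodes trv bs c = true) :
    palP0 (tz H cz) C0 hC0 (xG C0 gcodes) c.1.1 c.1.2.1 =
      palP0 (tz H cz) C0 hC0 (xG C0 gcodes) c.1.2.2.1 c.1.2.2.2 := by
  rw [palP0_eq_mk (xG C0 gcodes) (gG H gcodes) (fun i => rfl),
    palP0_eq_mk (xG C0 gcodes) (gG H gcodes) (fun i => rfl)]
  have hW := prod_trv_mem hn C0 htrv c.2
  apply mk_eq_of_mul hW
  have g1 : Acts (gG H gcodes c.1.2.1).1 (lk (gcodes.getD c.1.2.1 (pone n))) := acts_el hn (good_getD hg c.1.2.1)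
  have g2 : Acts (gG H gcodes c.1.2.2.2).1 (lk (gcodes.getD c.1.2.2.2 (pone n))) :=
    acts_el hn (good_getD hg c.1.2.2.2)
  have a1 := acts_trP hn hcz hg hconj c.1.1 (gG H gcodes c.1.2.1) _ g1
  have a2 := acts_trP hn hcz hg hconj c.1.2.2.1 (gG H gcodes c.1.2.2.2) _ g2
  have a3 := acts_trW hn (fun c hc => (htrv c hc).1) c.2
  have a4 := a2.mul a3
  rw [← Subgroup.coe_mul] at a4
  have key : (c.1.1.reverse.map (tG H cz gcodes)).prod * gG H gcodes c.1.2.1 =
      (c.1.2.2.1.reverse.map (tG H cz gcodes)).prod * gG H gcodes c.1.2.2.2 *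
        (c.2.map fun y => el H (trv.getD y (pone n))).prod := by
    refine eq_of_acts_base hbase a1 a4 ?_
    intro β hβ
    unfold relOKb at h
    exact Nat.eq_of_beq_eq_true (List.all_eq_true.1 h β hβ)
  exact key

end base

/-! ### the involution of the point of a palindrome -/

section invol

variable {G : Type*} [Group G] {t0 : G} {C0 : Subgroup G} {hC0 : C0 ≤ Cz t0} (h0 : t0 * t0 = 1) (x : ℕ → G ⧸ C0)

include h0 in
theorem prod_map_inv (l : List ℕ) :
    ((l.map fun i => Tq0 t0 C0 hC0 (x i)).prod)⁻¹ = (l.reverse.map fun i => Tq0 t0 C0 hC0 (x i)).prod := by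
  induction l with
  | nil => simp
  | cons i l ih =>
    rw [List.map_cons, List.prod_cons, mul_inv_rev, ih, List.reverse_cons, List.map_append, List.prod_append,
      List.map_cons, List.map_nil, List.prod_cons, List.prod_nil, mul_one,
      inv_eq_of_mul_eq_one_left (Tq0_sq t0 C0 hC0 h0 (x i))]

include h0 in
/-- the involution that belongs to the point of a palindrome is the product along the palindrome -/
theorem Tq0_palP0 (h : List ℕ) (c : ℕ) :
    Tq0 t0 C0 hC0 (palP0 t0 C0 hC0 x h c) = ((palW h c).map fun i => Tq0 t0 C0 hC0 (x i)).prod := by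
  unfold palP0 palW
  rw [← Tq0_conj, prod_map_inv h0 x h.reverse, List.reverse_reverse, List.map_append,
    List.prod_append, List.map_cons, List.prod_cons, mul_assoc]

/-- a product of members of the family moves the point of a palindrome to the point of a longer palindrome -/
theorem smul_palP0 (l h : List ℕ) (c : ℕ) :
    (l.reverse.map fun i => Tq0 t0 C0 hC0 (x i)).prod • palP0 t0 C0 hC0 x h c = palP0 t0 C0 hC0 x (h ++ l) c := by
  unfold palP0
  rw [List.reverse_append, List.map_append, List.prod_append, mul_smul]

include h0 in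
/-- the involution of the point of a palindrome moves the point of a palindrome to the point of a longer one -/
theorem Tq0_smul_palP0 (h' : List ℕ) (c' : ℕ) (h : List ℕ) (c : ℕ) :
    Tq0 t0 C0 hC0 (palP0 t0 C0 hC0 x h' c') • palP0 t0 C0 hC0 x h c =
      palP0 t0 C0 hC0 x (h ++ palW h' c') c := by
  rw [Tq0_palP0 h0, ← smul_palP0, palW_reverse]

end invol

end Cfsg.Agent.Lib.Helper5.Fi22Mult
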